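import Cfsg.Agent.OddOrderCharacters.InertiaAbelian
import Cfsg.Agent.Characters.Clifford
import Cfsg.Agent.H686.CharKit
import Cfsg.Agent.FastGrp
import Cfsg.Agent.Prune
set_option linter.all false
prune_inst 0x7f00000000000000000000000000000000000000000000000000000000000000000000000000000000000000000000000000000000000000000000000000000000000000000000000000000000000000003fffffffffffffffffffffffffffbeffbdffffffff
open scoped Cfsg.Agent.FastGrp

/-!
# The characters of large degree of a group with a normal subgroup of prime index (helper261)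
-/

set_option autoImplicit false

open Cfsg
open scoped ComplexConjugate

namespace Cfsg.Agent.H261.TI

open Cfsg.Agent.Characters.Core

universe u

variable {G : Type u} [Group G] [Fintype G]

/-- the stabilizer of a function -/
def stab (L : Subgroup G) [hN : L.Normal] (θ : L → ℂ) : Subgroup G where
  carrier := {g | ∀ n : L, θ ⟨g * n * g⁻¹, hN.conj_mem n n.2 g⟩ = θ n}
  mul_mem' := by
    intro a b ha hb n
    rw [← hb n, ← ha ⟨b * n * b⁻¹, hN.conj_mem n n.2 b⟩]
    congr 1
    apply Subtype.ext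
    show a * b * n * (a * b)⁻¹ = a * (b * n * b⁻¹) * a⁻¹
    group
  one_mem' := by
    intro n
    congr 1
    apply Subtype.ext
    show 1 * (n : G) * 1⁻¹ = n
    group
  inv_mem' := by
    intro a ha n
    rw [← ha ⟨a⁻¹ * n * a⁻¹⁻¹, hN.conj_mem n n.2 a⁻¹⟩]
    congr 1
    apply Subtype.ext
    show a * (a⁻¹ * n * a⁻¹⁻¹) * a⁻¹ = (n : G)
    group

omit [Fintype G] in
theorem mem_stab {L : Subgroup G} [hN : L.Normal] {θ : L → ℂ} {g : G} :
    g ∈ stab L θ ↔ ∀ n : L, θ ⟨g * n * g⁻¹, hN.conj_mem n n.2 g⟩ = θ n := Iff.rfl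

omit [Fintype G] in
theorem le_stab {L : Subgroup G} [L.Normal] {θ : L → ℂ} (hθ : IsIrrCharacter L θ) : L ≤ stab L θ := by
  intro g hg n
  exact isIrr_isClassFunction hθ n ⟨g, hg⟩

omit [Fintype G] in
theorem comm_mem (L : Subgroup G) [L.Normal] {p : ℕ} (hp : p.Prime) (hi : L.index = p) (x y : G) :
    x * y * x⁻¹ * y⁻¹ ∈ L := by
  have hc : IsCyclic (G ⧸ L) := isCyclic_of_prime_card (p := p) (hp := ⟨hp⟩) (by rw [← Subgroup.index, hi])
  have hcomm : ∀ a b : G ⧸ L, a * b = b * a := by
    obtain ⟨g, hg⟩ := hc.exists_generator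
    intro a b
    obtain ⟨i, rfl⟩ := hg a
    obtain ⟨j, rfl⟩ := hg b
    show g ^ i * g ^ j = g ^ j * g ^ i
    rw [← zpow_add, ← zpow_add, add_comm]
  rw [← QuotientGroup.eq_one_iff]
  show (x : G ⧸ L) * y * (x : G ⧸ L)⁻¹ * (y : G ⧸ L)⁻¹ = 1
  rw [hcomm (x : G ⧸ L) y]
  group

/-- induction and restriction for a normal subgroup of prime index -/
theorem prime_cases (L : Subgroup G) [L.Normal] [Fintype L] {p : ℕ} (hp : p.Prime) (hi : L.index = p)
    {θ : L → ℂ} (hθ : IsIrrCharacter L θ) :
    (stab L θ = ⊤ ∧ ∀ χ : G → ℂ, IsIrrCharacter G χ → classInner (fun n : L => χ n) θ ≠ 0 → χ 1 = θ 1) ∨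
    (stab L θ = L ∧ IsIrrCharacter G (indFun L θ) ∧ indFun L θ 1 = p * θ 1 ∧
      ∀ χ : G → ℂ, IsIrrCharacter G χ → classInner (fun n : L => χ n) θ ≠ 0 → χ = indFun L θ) := by
  classical
  obtain ⟨e, C, he, hC, hcard, hind, hdeg, -⟩ := OddOrderCharacters.InertiaAbelian.main L (stab L θ) θ hθ
    (fun g => mem_stab) (fun x _ y _ => comm_mem L hp hi x y)
  have hL0 : 0 < Nat.card L := Nat.card_pos
  have hfrob : ∀ χ : G → ℂ, IsIrrCharacter G χ → classInner (fun n : L => χ n) θ ≠ 0 → χ ∈ C := by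
    intro χ hχ h0
    by_contra hχC
    apply h0
    rw [← classInner_conj_symm, ← OddOrderCharacters.InertiaAbelian.frobenius L θ χ (isIrr_isClassFunction hχ),
      hind, classInner_smul_left, classInner_sum_left, Finset.sum_eq_zero, mul_zero, map_zero]
    intro ψ hψ
    exact classInner_irr_ne (hC ψ hψ) hχ (fun h => hχC (h ▸ hψ))
  have hTi : (stab L θ).index = 1 ∨ (stab L θ).index = p := by
    have h1 : (stab L θ).index ∣ L.index := Subgroup.index_dvd_of_le (le_stab hθ)
    rw [hi] at h1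
    exact (Nat.dvd_prime hp).1 h1
  rcases hTi with h1 | h1
  · left
    have hT := Subgroup.index_eq_one.1 h1
    refine ⟨hT, fun χ hχ h0 => ?_⟩
    have h2 : e ^ 2 * C.card = p := by
      have h3 : Nat.card (stab L θ) = p * Nat.card L := by
        rw [hT, Subgroup.card_top, ← Subgroup.card_mul_index L, hi, mul_comm]
      rw [h3] at hcard
      exact Nat.eq_of_mul_eq_mul_right hL0 hcard
    have h4 : e = 1 := by
      have h5 : e ∣ p := h2 ▸ Dvd.dvd.mul_right (dvd_pow_self e two_ne_zero) _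
      rcases (Nat.dvd_prime hp).1 h5 with h6 | h6
      · exact h6
      · exfalso
        rw [h6] at h2
        have h7 : 0 < C.card := by
          rcases Nat.eq_zero_or_pos C.card with h8 | h8
          · rw [h8, mul_zero] at h2
            exact absurd h2.symm hp.ne_zero
          · exact h8
        have := hp.one_lt
        nlinarith
    rw [hdeg χ (hfrob χ hχ h0), h1, h4]
    push_cast
    ring
  · right
    have hT : stab L θ = L := by
      refine le_antisymm ?_ (le_stab hθ)
      have h2 : Nat.card (stab L θ) = Nat.card L := by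
        have h3 := Subgroup.card_mul_index (stab L θ)
        rw [← Subgroup.card_mul_index L, hi, h1] at h3
        exact Nat.eq_of_mul_eq_mul_right hp.pos h3
      exact (Subgroup.eq_of_le_of_card_ge (le_stab hθ) h2.le).ge
    have h2 : e ^ 2 * C.card = 1 := by
      rw [hT] at hcard
      nlinarith
    have h3 : e = 1 := by
      have := Nat.eq_one_of_mul_eq_one_right h2
      exact (Nat.pow_eq_one.1 this).resolve_right (by norm_num)
    rw [h3, one_pow, one_mul] at h2
    obtain ⟨ψ, hψ⟩ := Finset.card_eq_one.1 h2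
    have h4 : indFun L θ = ψ := by
      rw [hind, h3, hψ, Finset.sum_singleton, Nat.cast_one, one_smul]
    have hψC : ψ ∈ C := by rw [hψ]; exact Finset.mem_singleton_self _
    refine ⟨hT, h4 ▸ hC ψ hψC, ?_, fun χ hχ h0 => ?_⟩
    · rw [h4, hdeg ψ hψC, h1, h3]
      push_cast
      ring
    · rw [h4]
      have := hfrob χ hχ h0
      rw [hψ] at this
      exact Finset.mem_singleton.1 this

/-- the multiplicity for a noninvariant character -/
theorem classInner_indFun (L : Subgroup G) [Fintype L] {θ : L → ℂ} (hI : IsIrrCharacter G (indFun L θ)) :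
    classInner (fun n : L => indFun L θ n) θ = 1 := by
  rw [← classInner_conj_symm, ← OddOrderCharacters.InertiaAbelian.frobenius L θ _ (isIrr_isClassFunction hI),
    classInner_irr_self hI, map_one]

/-- **The characters of large degree.** -/
theorem card_large (L : Subgroup G) [L.Normal] [Fintype L] {p : ℕ} (hp : p.Prime) (hi : L.index = p) (k : ℕ)
    (h1 : ∀ θ : IrrCharacter L, ¬ p ^ (k + 1) ∣ charDegree (θ : L → ℂ))
    (h2 : ∀ θ : IrrCharacter L, p ^ k ∣ charDegree (θ : L → ℂ) → stab L (θ : L → ℂ) ≠ ⊤) :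
    p * Nat.card {χ : IrrCharacter G // p ^ (k + 1) ∣ charDegree (χ : G → ℂ)} =
      Nat.card {θ : IrrCharacter L // p ^ k ∣ charDegree (θ : L → ℂ)} := by
  classical
  have := finite_irr (G := L)
  have := Fintype.ofFinite (IrrCharacter L)
  have := finite_irr (G := G)
  have := Fintype.ofFinite (IrrCharacter G)
  have hdeg : ∀ (θ : IrrCharacter L), stab L (θ : L → ℂ) = L → ∀ (h : IsIrrCharacter G (indFun L (θ : L → ℂ)))
      (_ : indFun L (θ : L → ℂ) 1 = p * (θ : L → ℂ) 1),
      charDegree (indFun L (θ : L → ℂ)) = p * charDegree (θ : L → ℂ) := by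
    intro θ _ h h1
    rw [← H686.CharKit.charDegree_irr θ, ← H686.CharKit.charDegree_cast (isIrr_isCharacter h)] at h1
    exact_mod_cast h1
  -- the map
  let Φ : {θ : IrrCharacter L // p ^ k ∣ charDegree (θ : L → ℂ)} →
      {χ : IrrCharacter G // p ^ (k + 1) ∣ charDegree (χ : G → ℂ)} := fun θ =>
    ⟨⟨indFun L (θ.1 : L → ℂ), by
      rcases prime_cases L hp hi θ.1.2 with h | h
      · exact absurd h.1 (h2 θ.1 θ.2)
      · exact h.2.1⟩, by
      rcases prime_cases L hp hi θ.1.2 with h | h
      · exact absurd h.1 (h2 θ.1 θ.2)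
      · show p ^ (k + 1) ∣ charDegree (indFun L (θ.1 : L → ℂ))
        rw [hdeg θ.1 h.1 h.2.1 h.2.2.1, pow_succ']
        exact Nat.mul_dvd_mul_left p θ.2⟩
  have hfib : ∀ χ, Nat.card {θ // Φ θ = χ} = p := by
    intro χ
    -- the constituents
    have hcon : ∀ θ : IrrCharacter L, classInner (fun n : L => (χ.1 : G → ℂ) n) (θ : L → ℂ) ≠ 0 →
        indFun L (θ : L → ℂ) = χ.1 ∧ charDegree (χ.1 : G → ℂ) = p * charDegree (θ : L → ℂ) ∧
        p ^ k ∣ charDegree (θ : L → ℂ) := by
      intro θ h0
      rcases prime_cases L hp hi θ.2 with h | h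
      · exfalso
        have h3 := h.2 _ χ.1.2 h0
        rw [← H686.CharKit.charDegree_irr θ, ← H686.CharKit.charDegree_irr χ.1] at h3
        have h4 : charDegree (χ.1 : G → ℂ) = charDegree (θ : L → ℂ) := by exact_mod_cast h3
        exact h1 θ (h4 ▸ χ.2)
      · have h3 := h.2.2.2 _ χ.1.2 h0
        have h4 := hdeg θ h.1 h.2.1 h.2.2.1
        rw [← h3] at h4
        refine ⟨h3.symm, h4, ?_⟩
        have h5 := χ.2
        rw [h4, pow_succ'] at h5
        exact Nat.dvd_of_mul_dvd_mul_left hp.pos h5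
    have hfil : ∀ θ : IrrCharacter L, classInner (fun n : L => (χ.1 : G → ℂ) n) (θ : L → ℂ) ≠ 0 →
        classInner (fun n : L => (χ.1 : G → ℂ) n) (θ : L → ℂ) = 1 := by
      intro θ h0
      have h3 := (hcon θ h0).1
      have h4 := classInner_indFun L (θ := (θ : L → ℂ)) (by rw [h3]; exact χ.1.2)
      rw [h3] at h4
      exact h4
    have hsum : (χ.1 : G → ℂ) 1 = ∑ θ : IrrCharacter L,
        classInner (fun n : L => (χ.1 : G → ℂ) n) (θ : L → ℂ) * (θ : L → ℂ) 1 := by
      have h := congrFun (classFunction_eq_sum (isCharacter_isClassFunction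
        (Characters.Clifford.isCharacter_restrict L (isIrr_isCharacter χ.1.2)))) 1
      simp only [Finset.sum_apply, Pi.smul_apply, smul_eq_mul] at h
      exact h
    set S := Finset.univ.filter (fun θ : IrrCharacter L =>
      classInner (fun n : L => (χ.1 : G → ℂ) n) (θ : L → ℂ) ≠ 0) with hS
    have hcard : (p : ℂ) * (χ.1 : G → ℂ) 1 = S.card * (χ.1 : G → ℂ) 1 := by
      have h3 : (p : ℂ) * ∑ θ : IrrCharacter L,
          classInner (fun n : L => (χ.1 : G → ℂ) n) (θ : L → ℂ) * (θ : L → ℂ) 1 =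
          S.card * (χ.1 : G → ℂ) 1 := by
        rw [Finset.mul_sum, ← nsmul_eq_mul, ← Finset.sum_const, hS, Finset.sum_filter]
        refine Finset.sum_congr rfl fun θ _ => ?_
        by_cases h0 : classInner (fun n : L => (χ.1 : G → ℂ) n) (θ : L → ℂ) ≠ 0
        · have h4 := (hcon θ h0).2.1
          rw [if_pos h0, hfil θ h0, ← H686.CharKit.charDegree_irr θ, ← H686.CharKit.charDegree_irr χ.1, h4]
          push_cast
          ring
        · rw [if_neg h0, not_not.1 h0]
          ring
      rw [← h3]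
      exact congrArg _ hsum
    have hcard' : p = S.card := by
      have h3 := mul_right_cancel₀ (isIrr_apply_one_ne_zero χ.1.2) hcard
      exact_mod_cast h3
    refine (?_ : Nat.card {θ // Φ θ = χ} = S.card).trans hcard'.symm
    rw [← Nat.card_eq_finsetCard]
    refine Nat.card_congr ⟨fun θ => ⟨θ.1.1, ?_⟩, fun θ => ⟨⟨θ.1, ?_⟩, ?_⟩, fun θ => rfl, fun θ => rfl⟩
    · have h3 : indFun L (θ.1.1 : L → ℂ) = χ.1 := congrArg (fun x => (x.1 : G → ℂ)) θ.2
      have h4 := classInner_indFun L (θ := (θ.1.1 : L → ℂ)) (by rw [h3]; exact χ.1.2)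
      rw [h3] at h4
      exact Finset.mem_filter.2 ⟨Finset.mem_univ _, by rw [h4]; exact one_ne_zero⟩
    · exact (hcon θ.1 (Finset.mem_filter.1 θ.2).2).2.2
    · exact Subtype.ext (Subtype.ext (hcon θ.1 (Finset.mem_filter.1 θ.2).2).1)
  have h5 := Nat.card_congr (Equiv.sigmaFiberEquiv Φ)
  rw [← h5, Nat.card_sigma, Finset.sum_congr rfl (fun χ _ => hfib χ), Finset.sum_const, smul_eq_mul,
    Finset.card_univ, ← Nat.card_eq_fintype_card, mul_comm]

end Cfsg.Agent.H261.TI

private theorem dce_73f7b49a116e : _root_.True := by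
  try have : _root_.True := by simp only [_root_.Cfsg.Agent.H261.TI.stab.congr_simp]
  exact _root_.True.intro
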